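import Mathlib.LinearAlgebra.FiniteDimensional.Lemmas
import Mathlib.LinearAlgebra.Basis.VectorSpace
import Mathlib.LinearAlgebra.Dimension.Constructions
import Mathlib.RingTheory.Artinian.Module
import Mathlib.Algebra.BigOperators.Fin
import Mathlib.LinearAlgebra.Dimension.OrzechProperty
import Mathlib.Tactic.LinearCombination

/-!
# Semilinear endomorphisms of finite-dimensional vector spaces
Fitting decomposition and Lang-type theorem for `σ`-semilinear endomorphisms.
-/

namespace GrothLib.SigmaLin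

open Submodule

variable {k : Type*} [Field k] {σ : k →+* k} {V : Type*} [AddCommGroup V] [Module k V]

lemma iterate_smul (T : V →ₛₗ[σ] V) (n : ℕ) (c : k) (v : V) :
    (⇑T)^[n] (c • v) = (⇑σ)^[n] c • (⇑T)^[n] v := by
  induction n with
  | zero => simp
  | succ n ih => rw [Function.iterate_succ_apply', ih, map_smulₛₗ, Function.iterate_succ_apply',
      Function.iterate_succ_apply']

lemma iterate_add (T : V →ₛₗ[σ] V) (n : ℕ) (v w : V) :
    (⇑T)^[n] (v + w) = (⇑T)^[n] v + (⇑T)^[n] w :=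
  iterate_map_add T n v w

lemma iterate_zero' (T : V →ₛₗ[σ] V) (n : ℕ) : (⇑T)^[n] 0 = 0 :=
  iterate_map_zero T n

lemma map_mem_span_image (T : V →ₛₗ[σ] V) {s : Set V} {v : V} (hv : v ∈ span k s) :
    T v ∈ span k (T '' s) := by
  induction hv using Submodule.span_induction with
  | mem x hx => exact subset_span ⟨x, hx, rfl⟩
  | zero => simp
  | add x y _ _ hx hy => rw [map_add]; exact add_mem hx hy
  | smul c x _ hx => rw [map_smulₛₗ]; exact smul_mem _ _ hx

variable [FiniteDimensional k V]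

/-- If the image of `W` spans `W`, then `T` is injective on `W`. -/
lemma injOn_of_le_span_image (T : V →ₛₗ[σ] V) (W : Submodule k V) (h : W ≤ span k (T '' W)) :
    Set.InjOn T W := by
  classical
  let b := Module.finBasis k W
  have hle : W ≤ span k (Set.range fun i => T (b i : V)) := by
    refine h.trans (span_le.2 ?_)
    rintro _ ⟨w, hw, rfl⟩
    have hw' : w ∈ span k (Set.range fun i => (b i : V)) := by
      have hs := congrArg Subtype.val (b.sum_repr ⟨w, hw⟩)
      simp only [coe_sum, coe_smul] at hs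
      rw [← hs]
      exact sum_mem fun i _ => smul_mem _ _ (subset_span ⟨i, rfl⟩)
    have := map_mem_span_image T hw'
    rw [← Set.range_comp] at this
    exact this
  have hli : LinearIndependent k fun i => T (b i : V) := by
    rw [linearIndependent_iff_card_le_finrank_span]
    rw [Fintype.card_fin]
    exact Submodule.finrank_mono hle
  have key : ∀ w ∈ W, T w = 0 → w = 0 := by
    intro w hw h0
    have hsum := congrArg Subtype.val (b.sum_repr ⟨w, hw⟩)
    simp only [coe_sum, coe_smul] at hsum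
    rw [← hsum] at h0 ⊢
    simp only [map_sum, map_smulₛₗ] at h0
    refine Finset.sum_eq_zero fun i _ => ?_
    have := Fintype.linearIndependent_iff.1 hli _ h0 i
    rw [map_eq_zero] at this
    rw [this, zero_smul]
  intro x hx y hy hxy
  exact sub_eq_zero.1 (key _ (sub_mem hx hy) (by rw [map_sub, hxy, sub_self]))

/-- The intersection of the spans of the images of the iterates. -/
def ess (T : V →ₛₗ[σ] V) : Submodule k V := ⨅ n : ℕ, span k (Set.range ((⇑T)^[n]))

omit [FiniteDimensional k V] in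
lemma span_range_antitone (T : V →ₛₗ[σ] V) :
    Antitone fun n : ℕ => span k (Set.range ((⇑T)^[n])) := by
  refine antitone_nat_of_succ_le fun n => span_mono ?_
  rintro _ ⟨v, rfl⟩
  exact ⟨T v, (Function.iterate_succ_apply T n v).symm⟩

lemma exists_stab (T : V →ₛₗ[σ] V) :
    ∃ N, ∀ n, N ≤ n → span k (Set.range ((⇑T)^[n])) = ess T := by
  obtain ⟨N, hN⟩ := IsArtinian.monotone_stabilizes (R := k) (M := V)
    ⟨fun n => OrderDual.toDual (span k (Set.range ((⇑T)^[n]))), fun a b hab =>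
      span_range_antitone T hab⟩
  have hN' : ∀ n, N ≤ n → span k (Set.range ((⇑T)^[N])) = span k (Set.range ((⇑T)^[n])) := hN
  refine ⟨N, fun n hn => ?_⟩
  rw [← hN' n hn]
  refine le_antisymm (le_iInf fun m => ?_) (iInf_le _ N)
  rcases le_total m N with h | h
  · exact span_range_antitone T h
  · exact (hN' m h).le

lemma span_image_ess (T : V →ₛₗ[σ] V) : span k (T '' (ess T : Set V)) = ess T := by
  obtain ⟨N, hN⟩ := exists_stab T
  apply le_antisymm
  · rw [span_le]
    rintro _ ⟨v, hv, rfl⟩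
    rw [SetLike.mem_coe, ← hN (N + 1) (by omega)]
    rw [SetLike.mem_coe, ← hN N le_rfl] at hv
    have := map_mem_span_image T hv
    refine span_mono ?_ this
    rintro _ ⟨_, ⟨w, rfl⟩, rfl⟩
    exact ⟨w, Function.iterate_succ_apply' T N w⟩
  · conv_lhs => rw [← hN (N + 1) (by omega)]
    refine span_mono ?_
    rintro _ ⟨w, rfl⟩
    refine ⟨(⇑T)^[N] w, ?_, (Function.iterate_succ_apply' T N w).symm⟩
    rw [SetLike.mem_coe, ← hN N le_rfl]
    exact subset_span ⟨w, rfl⟩

lemma map_mem_ess (T : V →ₛₗ[σ] V) {v : V} (hv : v ∈ ess T) : T v ∈ ess T := by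
  rw [← span_image_ess T]
  exact subset_span ⟨v, hv, rfl⟩

lemma iterate_mem_ess (T : V →ₛₗ[σ] V) (n : ℕ) {v : V} (hv : v ∈ ess T) :
    (⇑T)^[n] v ∈ ess T := by
  induction n with
  | zero => exact hv
  | succ n ih => rw [Function.iterate_succ_apply']; exact map_mem_ess T ih

lemma injOn_ess (T : V →ₛₗ[σ] V) : Set.InjOn T (ess T : Set V) :=
  injOn_of_le_span_image T _ (span_image_ess T).ge

lemma eq_zero_of_iterate_eq_zero (T : V →ₛₗ[σ] V) {v : V} (hv : v ∈ ess T) {n : ℕ}
    (h : (⇑T)^[n] v = 0) : v = 0 := by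
  induction n generalizing v with
  | zero => exact h
  | succ n ih =>
    rw [Function.iterate_succ_apply] at h
    have := ih (map_mem_ess T hv) h
    exact injOn_ess T hv (zero_mem _) (by rw [this, map_zero])

/-- The subspace of vectors killed by some iterate. -/
def nil (T : V →ₛₗ[σ] V) : Submodule k V where
  carrier := {v | ∃ n : ℕ, (⇑T)^[n] v = 0}
  add_mem' := by
    rintro a b ⟨m, hm⟩ ⟨n, hn⟩
    refine ⟨m + n, ?_⟩
    rw [iterate_add, Nat.add_comm m n, Function.iterate_add_apply, hm, iterate_zero', zero_add,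
      Nat.add_comm n m, Function.iterate_add_apply, hn, iterate_zero']
  zero_mem' := ⟨0, rfl⟩
  smul_mem' := by
    rintro c v ⟨n, hn⟩
    exact ⟨n, by rw [iterate_smul, hn, smul_zero]⟩

omit [FiniteDimensional k V] in
@[simp] lemma mem_nil {T : V →ₛₗ[σ] V} {v : V} : v ∈ nil T ↔ ∃ n : ℕ, (⇑T)^[n] v = 0 := Iff.rfl

lemma exists_nil_bound (T : V →ₛₗ[σ] V) : ∃ N, ∀ v ∈ nil T, (⇑T)^[N] v = 0 := by
  obtain ⟨N, hN⟩ := exists_stab T
  refine ⟨N, fun v ⟨n, hn⟩ => ?_⟩
  refine eq_zero_of_iterate_eq_zero T (n := n) ?_ ?_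
  · rw [← hN N le_rfl]; exact subset_span ⟨v, rfl⟩
  · rw [← Function.iterate_add_apply, Nat.add_comm, Function.iterate_add_apply, hn, iterate_zero']

lemma surjOn_ess (T : V →ₛₗ[σ] V) (hσ : Function.Surjective σ) :
    Set.SurjOn T (ess T : Set V) (ess T : Set V) := by
  intro v hv
  rw [SetLike.mem_coe, ← span_image_ess T] at hv
  induction hv using Submodule.span_induction with
  | mem x hx => exact hx
  | zero => exact ⟨0, zero_mem _, map_zero T⟩
  | add x y _ _ hx hy =>
    obtain ⟨a, ha, rfl⟩ := hx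
    obtain ⟨b, hb, rfl⟩ := hy
    exact ⟨a + b, add_mem ha hb, map_add T a b⟩
  | smul c x _ hx =>
    obtain ⟨a, ha, rfl⟩ := hx
    obtain ⟨d, rfl⟩ := hσ c
    exact ⟨d • a, smul_mem _ _ ha, map_smulₛₗ T d a⟩

lemma bijOn_ess (T : V →ₛₗ[σ] V) (hσ : Function.Surjective σ) :
    Set.BijOn T (ess T : Set V) (ess T : Set V) :=
  ⟨fun _ h => map_mem_ess T h, injOn_ess T, surjOn_ess T hσ⟩

lemma isCompl_nil_ess (T : V →ₛₗ[σ] V) (hσ : Function.Surjective σ) :
    IsCompl (nil T) (ess T) := by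
  constructor
  · rw [disjoint_iff_inf_le]
    rintro v ⟨⟨n, hn⟩, hv⟩
    exact (Submodule.mem_bot k).2 (eq_zero_of_iterate_eq_zero T hv hn)
  · rw [codisjoint_iff_le_sup]
    intro v _
    obtain ⟨N, hN⟩ := exists_stab T
    have hv : (⇑T)^[N] v ∈ (ess T : Set V) := by
      rw [SetLike.mem_coe, ← hN N le_rfl]; exact subset_span ⟨v, rfl⟩
    obtain ⟨w, hw, hwv⟩ := (surjOn_ess T hσ).iterate N hv
    refine Submodule.mem_sup.2 ⟨v - w, ⟨N, ?_⟩, w, hw, sub_add_cancel v w⟩
    rw [iterate_map_sub, hwv, sub_self]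

/-- Existence of a nonzero fixed vector in the span of a nowhere vanishing orbit. -/
theorem exists_fixed_mem_span_orbit (T : V →ₛₗ[σ] V)
    (h2 : ∀ (n : ℕ) (b : Fin (n + 1) → k), b ≠ 0 →
      ∃ x : k, x ≠ 0 ∧ x = ∑ i : Fin (n + 1), (⇑σ)^[i.val + 1] x * (⇑σ)^[i.val] (b (Fin.rev i)))
    (e : V) (he : ∀ m : ℕ, (⇑T)^[m] e ≠ 0) :
    ∃ v ∈ Submodule.span k (Set.range (fun m : ℕ => (⇑T)^[m] e)), v ≠ 0 ∧ T v = v := by
  classical
  let E : ℕ → V := fun m => (⇑T)^[m] e
  have hex : ∃ n, ¬ LinearIndependent k (fun i : Fin n => E i) := by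
    refine ⟨Module.finrank k V + 1, fun h => ?_⟩
    have := h.fintype_card_le_finrank
    simp at this
  let N := Nat.find hex
  have hN : ¬ LinearIndependent k (fun i : Fin N => E i) := Nat.find_spec hex
  obtain ⟨n, hn⟩ : ∃ n, N = n + 1 + 1 := by
    refine ⟨N - 2, ?_⟩
    have : N ≠ 0 := fun h => hN (by rw [h]; exact linearIndependent_empty_type)
    have : N ≠ 1 := fun h => hN (by
      rw [h]; exact linearIndependent_unique_iff.2 (he _))
    omega
  have hli : LinearIndependent k (fun i : Fin (n + 1) => E i) :=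
    not_not.1 (Nat.find_min hex (show n + 1 < N by omega))
  have hmem : E (n + 1) ∈ span k (Set.range fun i : Fin (n + 1) => E i) := by
    by_contra hc
    refine hN ?_
    rw [hn, linearIndependent_finSucc']
    exact ⟨hli, hc⟩
  obtain ⟨b, hb⟩ := (mem_span_range_iff_exists_fun k).1 hmem
  have hb0 : b ≠ 0 := by
    rintro rfl
    exact he (n + 1) (show E (n + 1) = 0 by rw [← hb]; simp)
  obtain ⟨x, hx0, hx⟩ := h2 n b hb0
  let b' : ℕ → k := fun j => if h : j < n + 1 then b ⟨j, h⟩ else 0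
  -- coefficients
  let c : ℕ → k := fun j => Nat.rec (σ x * b' 0) (fun j cj => σ cj + σ x * b' (j + 1)) j
  have hc : ∀ j, c j = ∑ i ∈ Finset.range (j + 1), (⇑σ)^[i] (σ x * b' (j - i)) := by
    intro j
    induction j with
    | zero => simp [c]
    | succ j ih =>
      show σ (c j) + σ x * b' (j + 1) = _
      rw [Finset.sum_range_succ' _ (j + 1), ih, map_sum]
      simp [Function.iterate_succ_apply']
  have hcn : c n = x := by
    conv_rhs => rw [hx]
    rw [hc, Finset.sum_range]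
    refine Finset.sum_congr rfl fun i _ => ?_
    rw [iterate_map_mul, ← Function.iterate_succ_apply, Fin.rev]
    simp only [b', dif_pos (show n - i.val < n + 1 by omega)]
    congr 3
    ext
    simp only []
    omega
  refine ⟨∑ i : Fin (n + 1), c i • E i, sum_mem fun i _ => smul_mem _ _ (subset_span ⟨_, rfl⟩),
    fun h0 => hx0 ?_, ?_⟩
  · have := Fintype.linearIndependent_iff.1 hli _ h0 (Fin.last n)
    rwa [Fin.val_last, hcn] at this
  · have hT : ∀ i : ℕ, T (E i) = E (i + 1) := fun i => (Function.iterate_succ_apply' T i e).symm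
    simp only [map_sum, map_smulₛₗ, hT]
    rw [Fin.sum_univ_castSucc, Fin.val_last, hcn, ← hb, Finset.smul_sum,
      Fin.sum_univ_succ (f := fun i : Fin (n + 1) => c i • E i),
      Fin.sum_univ_succ (f := fun i : Fin (n + 1) => σ x • b i • E i)]
    simp only [Fin.val_castSucc, Fin.val_succ, Fin.val_zero, smul_smul]
    have e1 : ∀ i : Fin n, c (i.val + 1) = σ (c i.val) + σ x * b i.succ := fun i => by
      show σ (c i.val) + σ x * b' (i.val + 1) = _
      simp only [b', dif_pos (show i.val + 1 < n + 1 by omega)]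
      rfl
    have e0 : c 0 = σ x * b 0 := by
      show σ x * b' 0 = _
      simp only [b', dif_pos (Nat.succ_pos n)]
      rfl
    simp only [e1, e0, add_smul, Finset.sum_add_distrib]
    abel

/-- Lang's theorem for semilinear endomorphisms: the fixed vectors span. -/
theorem span_fixed_eq_top (T : V →ₛₗ[σ] V) (h1 : span k (Set.range ⇑T) = ⊤)
    (h2 : ∀ (n : ℕ) (b : Fin (n + 1) → k), b ≠ 0 →
      ∃ x : k, x ≠ 0 ∧ x = ∑ i : Fin (n + 1), (⇑σ)^[i.val + 1] x * (⇑σ)^[i.val] (b (Fin.rev i)))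
    (h3 : ∀ c : k, ∃ y : k, σ y - y + c = 0) :
    span k {v : V | T v = v} = ⊤ := by
  classical
  set F := span k {v : V | T v = v} with hF
  by_contra hne
  have hFT : F ≤ F.comap T := by
    rw [hF, span_le]
    intro v hv
    exact subset_span (show T (T v) = T v from congrArg T (hv : T v = v))
  let T' : (V ⧸ F) →ₛₗ[σ] (V ⧸ F) := F.mapQ F T hFT
  have h1' : (⊤ : Submodule k (V ⧸ F)) ≤ span k (T' '' ((⊤ : Submodule k (V ⧸ F)) : Set (V ⧸ F))) := by
    intro z _
    obtain ⟨v, rfl⟩ := F.mkQ_surjective z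
    have hv : v ∈ span k (Set.range ⇑T) := h1 ▸ mem_top
    have := Submodule.mem_map_of_mem (f := F.mkQ) hv
    rw [Submodule.map_span] at this
    refine span_mono ?_ this
    rintro _ ⟨_, ⟨w, rfl⟩, rfl⟩
    exact ⟨F.mkQ w, trivial, rfl⟩
  have hinj := injOn_of_le_span_image T' ⊤ h1'
  obtain ⟨z, hz⟩ : ∃ z : V ⧸ F, z ≠ 0 := by
    by_contra hall
    push Not at hall
    exact hne (eq_top_iff.2 fun v _ => (Submodule.Quotient.mk_eq_zero F).1 (hall _))
  have hit : ∀ m, (⇑T')^[m] z ≠ 0 := by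
    intro m
    induction m with
    | zero => exact hz
    | succ m ih =>
      rw [Function.iterate_succ_apply']
      exact fun h => ih (hinj trivial trivial (by rw [h, map_zero]))
  obtain ⟨w, -, hw0, hwfix⟩ := exists_fixed_mem_span_orbit T' h2 z hit
  obtain ⟨v, rfl⟩ := F.mkQ_surjective w
  have hf : T v - v ∈ F := (Submodule.Quotient.eq F).1 hwfix
  have hex : ∀ f ∈ F, ∃ u ∈ F, T u - u + f = 0 := by
    intro f hf
    rw [hF, mem_span_set'] at hf
    obtain ⟨n, c, g, rfl⟩ := hf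
    choose y hy using h3
    refine ⟨∑ i, y (c i) • (g i : V), sum_mem fun i _ => smul_mem _ _ (subset_span (g i).2), ?_⟩
    simp only [map_sum, map_smulₛₗ, ← Finset.sum_sub_distrib, ← Finset.sum_add_distrib]
    refine Finset.sum_eq_zero fun i _ => ?_
    rw [show T (g i : V) = g i from (g i).2, ← sub_smul, ← add_smul, hy, zero_smul]
  obtain ⟨u, hu, hu0⟩ := hex _ hf
  have hfix : T (v + u) = v + u := by
    rw [map_add, ← sub_eq_zero, ← hu0]; abel
  have : v ∈ F := by
    have hvu : v + u ∈ F := subset_span hfix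
    simpa using sub_mem hvu hu
  exact hw0 ((Submodule.Quotient.mk_eq_zero F).2 this)

theorem exists_fixed_basis (T : V →ₛₗ[σ] V) (h1 : span k (Set.range ⇑T) = ⊤)
    (h2 : ∀ (n : ℕ) (b : Fin (n + 1) → k), b ≠ 0 →
      ∃ x : k, x ≠ 0 ∧ x = ∑ i : Fin (n + 1), (⇑σ)^[i.val + 1] x * (⇑σ)^[i.val] (b (Fin.rev i)))
    (h3 : ∀ c : k, ∃ y : k, σ y - y + c = 0) :
    (∃ b : Module.Basis (Fin (Module.finrank k V)) k V, ∀ i, T (b i) = b i) ∧
    Function.Surjective (fun v : V => v - T v) := by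
  classical
  have htop := span_fixed_eq_top T h1 h2 h3
  obtain ⟨s, hs, hspan, hli⟩ := exists_linearIndependent k {v : V | T v = v}
  have hb0 : ∃ b : Module.Basis s k V, ∀ i, T (b i) = b i :=
    ⟨.mk hli (by rw [Subtype.range_coe_subtype]; exact (hspan.trans htop).ge), fun i => by
      rw [Module.Basis.mk_apply]; exact hs i.2⟩
  obtain ⟨b₀, hb₀⟩ := hb0
  have : Fintype s := FiniteDimensional.fintypeBasisIndex b₀
  let eqv : s ≃ Fin (Module.finrank k V) :=
    Fintype.equivFinOfCardEq (Module.finrank_eq_card_basis b₀).symm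
  refine ⟨⟨b₀.reindex eqv, fun i => by rw [Module.Basis.reindex_apply]; exact hb₀ _⟩, fun v => ?_⟩
  choose y hy using h3
  refine ⟨∑ i, y (b₀.repr v i) • b₀ i, ?_⟩
  simp only [map_sum, map_smulₛₗ, hb₀, ← Finset.sum_sub_distrib, ← sub_smul]
  conv_rhs => rw [← b₀.sum_repr v]
  refine Finset.sum_congr rfl fun i _ => ?_
  congr 1
  linear_combination -(hy (b₀.repr v i))

/-- `1 - T` is surjective for every semilinear endomorphism. -/
theorem sub_surjective (T : V →ₛₗ[σ] V) (hσ : Function.Surjective σ)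
    (h2 : ∀ (n : ℕ) (b : Fin (n + 1) → k), b ≠ 0 →
      ∃ x : k, x ≠ 0 ∧ x = ∑ i : Fin (n + 1), (⇑σ)^[i.val + 1] x * (⇑σ)^[i.val] (b (Fin.rev i)))
    (h3 : ∀ c : k, ∃ y : k, σ y - y + c = 0) :
    Function.Surjective (fun v : V => v - T v) ∧
    ∃ b : Module.Basis (Fin (Module.finrank k (ess T))) k (ess T), ∀ i, T (b i : V) = (b i : V) := by
  let S : ess T →ₛₗ[σ] ess T :=
    { toFun := fun v => ⟨T v, map_mem_ess T v.2⟩
      map_add' := fun a b => Subtype.ext (map_add T (a : V) b)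
      map_smul' := fun c a => Subtype.ext (map_smulₛₗ T c (a : V)) }
  have h1 : span k (Set.range ⇑S) = ⊤ := by
    refine eq_top_iff.2 fun v _ => subset_span ?_
    obtain ⟨w, hw, hwv⟩ := surjOn_ess T hσ v.2
    exact ⟨⟨w, hw⟩, Subtype.ext hwv⟩
  obtain ⟨⟨b, hb⟩, hsurj⟩ := exists_fixed_basis S h1 h2 h3
  refine ⟨fun v => ?_, b, fun i => congrArg Subtype.val (hb i)⟩
  obtain ⟨a, ha, e, he, rfl⟩ := Submodule.mem_sup.1
    (show v ∈ nil T ⊔ ess T by rw [(isCompl_nil_ess T hσ).sup_eq_top]; exact mem_top)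
  obtain ⟨m, hm⟩ := ha
  obtain ⟨u, hu⟩ := hsurj ⟨e, he⟩
  have hu' : (u : V) - T u = e := congrArg Subtype.val hu
  refine ⟨(∑ i ∈ Finset.range m, (⇑T)^[i] a) + u, ?_⟩
  have h : (∑ i ∈ Finset.range m, (⇑T)^[i] a) - T (∑ i ∈ Finset.range m, (⇑T)^[i] a) = a := by
    rw [map_sum, ← Finset.sum_sub_distrib]
    simp only [← Function.iterate_succ_apply' (f := ⇑T)]
    rw [Finset.sum_range_sub' (fun i => (⇑T)^[i] a) m, hm, sub_zero, Function.iterate_zero_apply]
  simp only [map_add]
  rw [add_sub_add_comm, h, hu']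

end GrothLib.SigmaLin
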