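import Groth.Agent.Lib.SigmaLin.Lifting
import Groth.Prelude.Def_WittGrp
import Mathlib.FieldTheory.IsAlgClosed.Basic
import Mathlib.RingTheory.WittVector.Complete
import Mathlib.RingTheory.WittVector.DiscreteValuationRing
import Mathlib.RingTheory.WittVector.Truncated

/-!
# Frobenius-type endomorphisms over an algebraically closed field
-/

universe u

namespace GrothLib.SigmaLin

open Polynomial

variable {k : Type u} [Field k] [IsAlgClosed k]

lemma exists_ne_zero_root (f : k[X]) {a b : ℕ} (hab : a ≠ b) (ha : f.coeff a ≠ 0) (hb : f.coeff b ≠ 0) :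
    ∃ x : k, x ≠ 0 ∧ f.eval x = 0 := by
  by_contra h
  push Not at h
  have hf : f ≠ 0 := fun h0 => ha (by simp [h0])
  have hroots : ∀ r ∈ f.roots, r = 0 := fun r hr => by
    by_contra hr0
    exact h r hr0 (isRoot_of_mem_roots hr)
  have hprod : (f.roots.map fun r => X - C r).prod = X ^ f.roots.card := by
    rw [Multiset.map_congr (g := fun _ => (X : k[X])) rfl (fun r hr => by rw [hroots r hr, map_zero, sub_zero]),
      Multiset.map_const', Multiset.prod_replicate]
  have hfeq : f = C f.leadingCoeff * X ^ f.roots.card := by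
    rw [← hprod]
    exact Splits.eq_prod_roots (IsAlgClosed.splits f)
  rw [hfeq, coeff_C_mul_X_pow] at ha hb
  split_ifs at ha hb with h1 h2
  · exact hab (h1.trans h2.symm)
  all_goals simp at ha hb

variable (p : ℕ) [Fact p.Prime] [CharP k p]

lemma frobenius_iterate (n : ℕ) (x : k) : (⇑(frobenius k p))^[n] x = x ^ p ^ n := by
  rw [← coe_iterateFrobenius, iterateFrobenius_def]

lemma langHyp_frobenius : LangHyp (frobenius k p) := by
  have hp : 1 < p := (Fact.out : p.Prime).one_lt
  refine ⟨fun c => ?_, fun n b hb => ?_, fun c => ?_⟩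
  · obtain ⟨z, hz⟩ := IsAlgClosed.exists_pow_nat_eq c (show 0 < p by omega)
    exact ⟨z, hz⟩
  · let c : Fin (n + 1) → k := fun i => b (Fin.rev i) ^ p ^ i.val
    obtain ⟨j, hj⟩ : ∃ j, c j ≠ 0 := by
      by_contra h
      push Not at h
      refine hb (funext fun i => ?_)
      have := h (Fin.rev i)
      simp only [c, Fin.rev_rev] at this
      exact pow_eq_zero_iff (pow_ne_zero _ (by omega)) |>.1 this
    let f : k[X] := ∑ i : Fin (n + 1), C (c i) * X ^ p ^ (i.val + 1) - X
    have hne1 : ∀ i : Fin (n + 1), (1 : ℕ) ≠ p ^ (i.val + 1) := fun i =>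
      (Nat.one_lt_pow (by omega) hp).ne
    have h1 : f.coeff 1 = -1 := by
      simp [f, coeff_C_mul_X_pow, hne1]
    have hj' : f.coeff (p ^ (j.val + 1)) = c j := by
      simp only [f, coeff_sub, finsetSum_coeff, coeff_C_mul_X_pow, coeff_X, if_neg (hne1 j), sub_zero]
      rw [Finset.sum_eq_single j (fun i _ hij => if_neg fun h => hij (Fin.ext (by
        have := Nat.pow_right_injective hp h; omega))) (by simp), if_pos rfl]
    obtain ⟨x, hx, hx0⟩ := exists_ne_zero_root f (hne1 j) (by rw [h1]; simp) (by rw [hj']; exact hj)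
    refine ⟨x, hx, ?_⟩
    simp only [f, eval_sub, eval_finsetSum, eval_mul, eval_C, eval_pow, eval_X, sub_eq_zero] at hx0
    rw [← hx0]
    simp only [frobenius_iterate, c]
    rw [hx0]
    conv_lhs => rw [← hx0]
    exact Finset.sum_congr rfl fun i _ => mul_comm _ _
  · obtain ⟨y, hy⟩ := IsAlgClosed.exists_root (X ^ p - X + C c : k[X]) (by
      have : (X ^ p - X + C c : k[X]).natDegree = p := by
        rw [natDegree_add_C, natDegree_sub_eq_left_of_natDegree_lt] <;> simp [hp]
      intro h0
      rw [natDegree_eq_zero_iff_degree_le_zero.2 h0.le] at this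
      omega)
    exact ⟨y, by simpa [IsRoot, frobenius_def] using hy⟩

lemma frobenius_symm_iterate (n : ℕ) (y : k) :
    (⇑(frobeniusEquiv k p).symm.toRingHom)^[n] (y ^ p ^ n) = y := by
  induction n with
  | zero => simp
  | succ n ih =>
    rw [Function.iterate_succ_apply, pow_succ, pow_mul]
    simp only [RingEquiv.toRingHom_eq_coe, RingHom.coe_coe, frobeniusEquiv_symm_pow] at ih ⊢
    exact ih

lemma langHyp_frobenius_symm : LangHyp (frobeniusEquiv k p).symm.toRingHom := by
  have hp : 1 < p := (Fact.out : p.Prime).one_lt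
  let τ := (frobeniusEquiv k p).symm.toRingHom
  have hτ : ∀ y : k, τ (y ^ p) = y := fun y => (frobeniusEquiv k p).symm_apply_apply y
  refine ⟨(frobeniusEquiv k p).symm.surjective, fun n b hb => ?_, fun c => ?_⟩
  · let d : Fin (n + 1) → k := fun i => (⇑τ)^[i.val] (b (Fin.rev i))
    obtain ⟨j, hj⟩ : ∃ j, d j ≠ 0 := by
      by_contra h
      push Not at h
      refine hb (funext fun i => ?_)
      have := h (Fin.rev i)
      simp only [d, Fin.rev_rev] at this
      rw [← iterate_map_zero τ (Fin.rev i).val] at this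
      exact (τ.injective.iterate _) this
    let f : k[X] := X ^ p ^ (n + 1) - ∑ i : Fin (n + 1), C (d i) * X ^ p ^ (n - i.val)
    have hne : ∀ i : Fin (n + 1), p ^ (n + 1) ≠ p ^ (n - i.val) := fun i h => by
      have := Nat.pow_right_injective hp h; omega
    have h1 : f.coeff (p ^ (n + 1)) = 1 := by
      simp [f, coeff_C_mul_X_pow, hne]
    have hj' : f.coeff (p ^ (n - j.val)) = -d j := by
      simp only [f, coeff_sub, finsetSum_coeff, coeff_C_mul_X_pow, coeff_X_pow, if_neg (hne j).symm, zero_sub]
      rw [Finset.sum_eq_single j (fun i _ hij => if_neg fun h => hij (Fin.ext (by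
        have := Nat.pow_right_injective hp h; omega))) (by simp), if_pos rfl]
    obtain ⟨y, hy, hy0⟩ := exists_ne_zero_root f (hne j) (by rw [h1]; simp) (by rw [hj']; simpa using hj)
    refine ⟨y ^ p ^ (n + 1), pow_ne_zero _ hy, ?_⟩
    simp only [f, eval_sub, eval_finsetSum, eval_mul, eval_C, eval_pow, eval_X, sub_eq_zero] at hy0
    conv_lhs => rw [hy0]
    refine Finset.sum_congr rfl fun i _ => ?_
    rw [mul_comm]
    congr 1
    have e : p ^ (n + 1) = p ^ (n - i.val) * p ^ (i.val + 1) := by
      rw [← pow_add]; congr 1; omega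
    rw [e, pow_mul, frobenius_symm_iterate]
  · obtain ⟨z, hz⟩ := (langHyp_frobenius (k := k) p).h3 (-c)
    refine ⟨z ^ p, ?_⟩
    change τ (z ^ p) - z ^ p + c = 0
    rw [hτ]
    rw [frobenius_def] at hz
    linear_combination -hz

omit [IsAlgClosed k] in
lemma finite_fixed_frobenius_symm :
    {x : k | frobenius k p x = x}.Finite := by
  have hp : 1 < p := (Fact.out : p.Prime).one_lt
  have hne : (X ^ p - X : k[X]) ≠ 0 := FiniteField.X_pow_card_sub_X_ne_zero k hp
  refine (Polynomial.finite_setOf_isRoot hne).subset fun x hx => ?_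
  simp only [Set.mem_ofPred_eq, frobenius_def] at hx
  simp [IsRoot, hx]

section Truncated

variable (n : ℕ)

/-- The zeroth coordinate of a nonempty truncated Witt vector, as a ring map. -/
noncomputable def truncResidue : TruncatedWittVector p (n + 1) k →+* k where
  toFun x := x.coeff 0
  map_one' := by
    rw [← map_one (WittVector.truncate (p := p) (R := k) (n + 1)), WittVector.coeff_truncate]
    exact WittVector.one_coeff_zero p k
  map_zero' := by simp
  map_mul' x y := by
    obtain ⟨X, rfl⟩ := WittVector.truncate_surjective p (n + 1) k x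
    obtain ⟨Y, rfl⟩ := WittVector.truncate_surjective p (n + 1) k y
    rw [← map_mul, WittVector.coeff_truncate, WittVector.coeff_truncate, WittVector.coeff_truncate]
    exact WittVector.mul_coeff_zero X Y
  map_add' x y := by
    obtain ⟨X, rfl⟩ := WittVector.truncate_surjective p (n + 1) k x
    obtain ⟨Y, rfl⟩ := WittVector.truncate_surjective p (n + 1) k y
    rw [← map_add, WittVector.coeff_truncate, WittVector.coeff_truncate, WittVector.coeff_truncate]
    exact WittVector.add_coeff_zero X Y

omit [IsAlgClosed k] [CharP k p] in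
@[simp] lemma truncResidue_apply (x : TruncatedWittVector p (n + 1) k) : truncResidue p n x = x.coeff 0 := rfl

omit [IsAlgClosed k] [CharP k p] in
lemma truncResidue_surjective : Function.Surjective (truncResidue (k := k) p n) := fun a =>
  ⟨TruncatedWittVector.mk p fun _ => a, by simp⟩

lemma ker_truncResidue : RingHom.ker (truncResidue (k := k) p n) = Ideal.span {(p : TruncatedWittVector p (n + 1) k)} := by
  apply le_antisymm
  · intro x hx
    obtain ⟨X, rfl⟩ := WittVector.truncate_surjective p (n + 1) k x
    rw [RingHom.mem_ker, truncResidue_apply, WittVector.coeff_truncate] at hx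
    obtain ⟨Y, rfl⟩ := Ideal.mem_span_singleton'.1 ((WittVector.mem_span_p_iff_coeff_zero_eq_zero X).2 hx)
    exact Ideal.mem_span_singleton'.2 ⟨WittVector.truncate (n + 1) Y, by simp⟩
  · rw [Ideal.span_le, Set.singleton_subset_iff, SetLike.mem_coe, RingHom.mem_ker, map_natCast]
    exact CharP.cast_eq_zero k p

lemma natCast_pow_eq_zero : (p : TruncatedWittVector p n k) ^ n = 0 := by
  have h : ((p : WittVector p k) ^ n) ∈ RingHom.ker (WittVector.truncate (p := p) (R := k) n) := by
    rw [WittVector.mem_ker_truncate]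
    exact fun i hi => (WittVector.mem_span_p_pow_iff_le_coeff_eq_zero _ n).1 (Ideal.mem_span_singleton_self _) i hi
  simpa using h

omit [IsAlgClosed k] [CharP k p] in
lemma truncResidue_truncMap (f : k →+* k) (r : TruncatedWittVector p (n + 1) k) :
    f (truncResidue p n r) = truncResidue p n (WittGrp.truncMap p (n + 1) f r) := by
  simp [WittGrp.truncMap, WittGrp.truncMapFun]

end Truncated

/-- Both admissible endomorphisms of the statement. -/
lemma exists_langHyp {n : ℕ} {σ : TruncatedWittVector p n k →+* TruncatedWittVector p n k}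
    (hσ : σ = WittGrp.truncMap p n (frobenius k p) ∨
      σ = WittGrp.truncMap p n (frobeniusEquiv k p).symm.toRingHom) :
    ∃ τ : k →+* k, LangHyp τ ∧ σ = WittGrp.truncMap p n τ ∧ ∀ x, τ x = x ↔ frobenius k p x = x := by
  rcases hσ with h | h
  · exact ⟨_, langHyp_frobenius p, h, fun x => Iff.rfl⟩
  · refine ⟨_, langHyp_frobenius_symm p, h, fun x => ?_⟩
    rw [RingEquiv.toRingHom_eq_coe, RingHom.coe_coe, RingEquiv.symm_apply_eq, frobeniusEquiv_apply, frobenius_def]
    exact eq_comm

end GrothLib.SigmaLin
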