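import Groth.Agent.Lib.SigmaLin.Basic
import Mathlib.RingTheory.Ideal.Quotient.Operations
import Mathlib.RingTheory.Finiteness.Basic
import Mathlib.LinearAlgebra.Quotient.Pi
import Mathlib.Algebra.Ring.Subring.Basic
import Mathlib.Algebra.Module.Torsion.Basic

/-!
# Semilinear endomorphisms over a ring with nilpotent uniformizer
-/

universe u v w

namespace GrothLib.SigmaLin

open Submodule

/-- The hypotheses of Lang's theorem for a field endomorphism. -/
structure LangHyp {K : Type*} [Field K] (τ : K →+* K) : Prop where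
  surj : Function.Surjective τ
  h2 : ∀ (n : ℕ) (b : Fin (n + 1) → K), b ≠ 0 →
    ∃ x : K, x ≠ 0 ∧ x = ∑ i : Fin (n + 1), (⇑τ)^[i.val + 1] x * (⇑τ)^[i.val] (b (Fin.rev i))
  h3 : ∀ c : K, ∃ y : K, τ y - y + c = 0

/-- In a finite-dimensional space the fixed vectors lie in the fixed span of finitely many. -/
lemma exists_finset_fixed_combination {K : Type*} [Field K] {τ : K →+* K} {V : Type*} [AddCommGroup V]
    [Module K V] [FiniteDimensional K V] (S : V →ₛₗ[τ] V) :
    ∃ t : Finset V, (∀ v ∈ t, S v = v) ∧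
      ∀ v, S v = v → ∃ c : V → K, (∀ x ∈ t, τ (c x) = c x) ∧ v = ∑ x ∈ t, c x • x := by
  classical
  obtain ⟨b, hb, hspan, hli⟩ := exists_linearIndependent K {v : V | S v = v}
  have hbf : b.Finite := hli.setFinite
  refine ⟨hbf.toFinset, fun v hv => hb (hbf.mem_toFinset.1 hv), fun v hv => ?_⟩
  have hmem : v ∈ span K (hbf.toFinset : Set V) := by
    rw [Set.Finite.coe_toFinset, hspan]; exact subset_span hv
  obtain ⟨c, -, hc⟩ := Submodule.mem_span_finset.1 hmem
  refine ⟨c, fun x hx => ?_, hc.symm⟩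
  have h1 : ∑ y ∈ hbf.toFinset, (τ (c y) - c y) • y = 0 := by
    simp only [sub_smul, Finset.sum_sub_distrib]
    rw [hc, sub_eq_zero]
    conv_rhs => rw [← hv, ← hc, map_sum]
    refine Finset.sum_congr rfl fun y hy => ?_
    rw [map_smulₛₗ, show S y = y from hb (hbf.mem_toFinset.1 hy)]
  have hli' : LinearIndepOn K id (hbf.toFinset : Set V) := by rw [Set.Finite.coe_toFinset]; exact hli
  exact sub_eq_zero.1 (linearIndepOn_iff'.1 hli' hbf.toFinset _ subset_rfl h1 x hx)

variable {R : Type u} [CommRing R] {K : Type v} [Field K] (π : R →+* K) (hπ : Function.Surjective π)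
  (p : ℕ) (hker : RingHom.ker π = Ideal.span {(p : R)}) {σ : R →+* R} (τ : K →+* K)
  (hcomp : ∀ r, τ (π r) = π (σ r))

include hπ hker hcomp in
/-- Reduction modulo `p`: the fixed vectors and surjectivity of `1 - T`. -/
lemma mod_p_facts (hτ : LangHyp τ) {M : Type w} [AddCommGroup M] [Module R M] [Module.Finite R M]
    (T : M →ₛₗ[σ] M) :
    (∀ m : M, ∃ x m' : M, m = x - T x + (p : R) • m') ∧
    ∃ s : Finset M, (∀ x ∈ s, ∃ d : M, T x - x = (p : R) • d) ∧
      ∀ m : M, (∃ d : M, T m - m = (p : R) • d) →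
        ∃ (c : M → K) (m' : M), (∀ x ∈ s, τ (c x) = c x) ∧
          ∀ r : M → R, (∀ x ∈ s, π (r x) = c x) → ∃ m'' : M, m - ∑ x ∈ s, r x • x = (p : R) • m'' := by
  classical
  let N : Submodule R M := RingHom.ker π • (⊤ : Submodule R M)
  have hN : ∀ z, z ∈ N ↔ ∃ d : M, z = (p : R) • d := fun z => by
    simp only [N, hker, Submodule.ideal_span_singleton_smul]
    rw [Submodule.mem_smul_pointwise_iff_exists]
    simp [eq_comm]
  let e : K ≃+* R ⧸ RingHom.ker π := (RingHom.quotientKerEquivOfSurjective hπ).symm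
  letI : Module K (M ⧸ N) := Module.compHom _ e.toRingHom
  have hsm : ∀ (r : R) (m : M), π r • (Submodule.Quotient.mk m : M ⧸ N) = Submodule.Quotient.mk (r • m) := by
    intro r m
    have : e (π r) = Ideal.Quotient.mk _ r := by
      rw [RingEquiv.symm_apply_eq, RingHom.quotientKerEquivOfSurjective_apply_mk]
    show e (π r) • (Submodule.Quotient.mk m : M ⧸ N) = _
    rw [this]
    rfl
  haveI : Module.Finite K (M ⧸ N) := by
    obtain ⟨s, hs⟩ := Module.Finite.fg_top (R := R) (M := M)
    refine ⟨⟨s.image Submodule.Quotient.mk, Submodule.eq_top_iff'.2 fun z => ?_⟩⟩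
    obtain ⟨m, rfl⟩ := Submodule.Quotient.mk_surjective N z
    have hm : m ∈ span R (s : Set M) := hs ▸ mem_top
    induction hm using Submodule.span_induction with
    | mem x hx => exact subset_span (by simpa using ⟨x, hx, rfl⟩)
    | zero => rw [Submodule.Quotient.mk_zero]; exact zero_mem _
    | add x y _ _ hx hy => rw [Submodule.Quotient.mk_add]; exact add_mem hx hy
    | smul r x _ hx => rw [← hsm]; exact smul_mem _ _ hx
  have hσp : σ (p : R) = (p : R) := map_natCast σ p
  have hTN : N ≤ N.comap T := fun z hz => by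
    obtain ⟨d, rfl⟩ := (hN z).1 hz
    rw [Submodule.mem_comap, map_smulₛₗ, hσp]
    exact (hN _).2 ⟨T d, rfl⟩
  let T₀ : (M ⧸ N) →ₛₗ[σ] (M ⧸ N) := N.mapQ N T hTN
  let S : (M ⧸ N) →ₛₗ[τ] (M ⧸ N) :=
    { toFun := T₀
      map_add' := map_add T₀
      map_smul' := fun c z => by
        obtain ⟨r, rfl⟩ := hπ c
        obtain ⟨m, rfl⟩ := Submodule.Quotient.mk_surjective N z
        rw [hsm, hcomp]
        show Submodule.Quotient.mk (T (r • m)) = π (σ r) • (Submodule.Quotient.mk (T m) : M ⧸ N)
        rw [hsm, map_smulₛₗ] }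
  have hS : ∀ m : M, S (Submodule.Quotient.mk m) = Submodule.Quotient.mk (T m) := fun m => rfl
  have hfix : ∀ m : M, S (Submodule.Quotient.mk m) = Submodule.Quotient.mk m ↔
      ∃ d : M, T m - m = (p : R) • d := fun m => by
    rw [hS, Submodule.Quotient.eq, hN]
  refine ⟨fun m => ?_, ?_⟩
  · obtain ⟨z, hz⟩ := (sub_surjective S hτ.surj hτ.h2 hτ.h3).1 (Submodule.Quotient.mk m)
    obtain ⟨x, rfl⟩ := Submodule.Quotient.mk_surjective N z
    have : m - (x - T x) ∈ N := by
      rw [← Submodule.Quotient.eq, Submodule.Quotient.mk_sub]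
      exact hz.symm
    obtain ⟨d, hd⟩ := (hN _).1 this
    exact ⟨x, d, by rw [← hd]; abel⟩
  · obtain ⟨t, htfix, ht⟩ := exists_finset_fixed_combination S
    let lift : M ⧸ N → M := Function.surjInv (Submodule.Quotient.mk_surjective N)
    have hlift : ∀ z, (Submodule.Quotient.mk (lift z) : M ⧸ N) = z := Function.surjInv_eq _
    refine ⟨t.image lift, fun x hx => ?_, fun m hm => ?_⟩
    · obtain ⟨z, hz, rfl⟩ := Finset.mem_image.1 hx
      refine (hfix _).1 ?_
      rw [hlift]; exact htfix z hz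
    · obtain ⟨c, hcfix, hcm⟩ := ht (Submodule.Quotient.mk m) ((hfix m).2 hm)
      refine ⟨fun x => c (Submodule.Quotient.mk x), 0, fun x hx => ?_, fun r hr => ?_⟩
      · obtain ⟨z, hz, rfl⟩ := Finset.mem_image.1 hx
        simp only [hlift]; exact hcfix z hz
      · rw [← hN, ← Submodule.Quotient.eq, hcm, Finset.sum_image fun a _ b _ hab => by
          rw [← hlift a, hab, hlift b]]
        show _ = N.mkQ (∑ z ∈ t, r (lift z) • lift z)
        rw [map_sum]
        refine Finset.sum_congr rfl fun z hz => ?_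
        rw [Submodule.mkQ_apply, ← hsm, hr _ (Finset.mem_image_of_mem _ hz)]; simp only [hlift]

include hπ hker hcomp in
theorem sub_surjective_of_nilpotent (hτ : LangHyp τ) {n : ℕ} (hn : (p : R) ^ n = 0)
    {M : Type w} [AddCommGroup M] [Module R M] [Module.Finite R M] (T : M →ₛₗ[σ] M) :
    Function.Surjective (fun m : M => m - T m) := by
  have h := (mod_p_facts π hπ p hker τ hcomp hτ T).1
  have key : ∀ j : ℕ, ∀ m : M, ∃ x m' : M, m = x - T x + (p : R) ^ j • m' := by
    intro j
    induction j with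
    | zero => exact fun m => ⟨0, m, by simp⟩
    | succ j ih =>
      intro m
      obtain ⟨x, m', rfl⟩ := ih m
      obtain ⟨y, m'', rfl⟩ := h m'
      refine ⟨x + (p : R) ^ j • y, m'', ?_⟩
      rw [map_add, map_smulₛₗ, map_pow, map_natCast, smul_add, smul_sub, smul_smul, ← pow_succ]
      abel
  intro m
  obtain ⟨x, m', hx⟩ := key n m
  exact ⟨x, by simp only; rw [hx, hn, zero_smul, add_zero]⟩

include hπ hker hcomp in
theorem exists_fixed_generators (hτ : LangHyp τ) (hlift : ∀ x : K, τ x = x → ∃ r : R, σ r = r ∧ π r = x)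
    (n : ℕ) :
    ∀ (M : Type w) [AddCommGroup M] [Module R M] [Module.Finite R M], ((p : R) ^ n = 0) →
      (∀ m : M, (p : R) ^ n • m = 0) → ∀ T : M →ₛₗ[σ] M,
      ∃ s : Finset M, (∀ x ∈ s, T x = x) ∧
        ∀ m, T m = m → m ∈ span (σ.eqLocus (RingHom.id R)) (s : Set M) := by
  intro M _ _ _ hn0
  suffices key : ∀ (j : ℕ) (M' : Submodule R M), M'.FG → (∀ m ∈ M', (p : R) ^ j • m = 0) →
      ∀ T : M →ₛₗ[σ] M, (∀ m ∈ M', T m ∈ M') →
      ∃ s : Finset M, (∀ x ∈ s, T x = x ∧ x ∈ M') ∧
        ∀ m ∈ M', T m = m → m ∈ span (σ.eqLocus (RingHom.id R)) (s : Set M) by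
    intro hn T
    obtain ⟨s, hs, hs'⟩ := key n ⊤ Module.Finite.fg_top (fun m _ => hn m) T fun _ _ => trivial
    exact ⟨s, fun x hx => (hs x hx).1, fun m hm => hs' m trivial hm⟩
  classical
  intro j
  induction j with
  | zero =>
    intro M' _ h0 T _
    exact ⟨∅, by simp, fun m hm _ => by rw [show m = 0 by simpa using h0 m hm]; exact zero_mem _⟩
  | succ j ih =>
    intro M' hfg h0 T hT
    haveI : Module.Finite R M' := Module.Finite.iff_fg.2 hfg
    let T' : M' →ₛₗ[σ] M' :=
      { toFun := fun m => ⟨T m, hT m m.2⟩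
        map_add' := fun a b => Subtype.ext (map_add T (a : M) b)
        map_smul' := fun c a => Subtype.ext (map_smulₛₗ T c (a : M)) }
    let P : Submodule R M := M'.map ((p : R) • (LinearMap.id : M →ₗ[R] M))
    have hPfg : P.FG := hfg.map _
    have hPle : P ≤ M' := by
      rintro _ ⟨x, hx, rfl⟩; exact M'.smul_mem _ hx
    have hTP : ∀ m ∈ P, T m ∈ P := by
      rintro _ ⟨x, hx, rfl⟩
      refine ⟨T x, hT x hx, ?_⟩
      simp [map_smulₛₗ]
    obtain ⟨s₁, hs₁, hs₁'⟩ := ih P hPfg (by
      rintro _ ⟨x, hx, rfl⟩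
      simpa [smul_smul, ← pow_succ] using h0 x hx) T hTP
    obtain ⟨-, t, ht, ht'⟩ := mod_p_facts π hπ p hker τ hcomp hτ T'
    -- lift approximately fixed elements to fixed ones
    have hfix : ∀ x ∈ t, ∃ y : M', T' y = y ∧ ∃ d : M', y - x = (p : R) • d := by
      intro x hx
      obtain ⟨d, hd⟩ := ht x hx
      obtain ⟨e, he⟩ := sub_surjective_of_nilpotent π hπ p hker τ hcomp hτ hn0 T' d
      simp only at he
      refine ⟨x + (p : R) • e, ?_, e, add_sub_cancel_left _ _⟩
      rw [map_add, map_smulₛₗ, map_natCast, eq_add_of_sub_eq hd, ← he, smul_sub]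
      abel
    choose! y hy d hd using hfix
    refine ⟨s₁ ∪ t.image fun x => (y x : M), ?_, ?_⟩
    · intro x hx
      rcases Finset.mem_union.1 hx with h | h
      · exact ⟨(hs₁ x h).1, hPle (hs₁ x h).2⟩
      · obtain ⟨z, hz, rfl⟩ := Finset.mem_image.1 h
        exact ⟨congrArg Subtype.val (hy z hz), (y z).2⟩
    · intro m hm hmfix
      obtain ⟨c, -, hc, hc'⟩ := ht' ⟨m, hm⟩ ⟨0, by rw [smul_zero, sub_eq_zero]; exact Subtype.ext hmfix⟩
      have : ∀ x ∈ t, ∃ r : R, σ r = r ∧ π r = c x := fun x hx => hlift _ (hc x hx)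
      choose! r hr hr' using this
      obtain ⟨m'', hm''⟩ := hc' r hr'
      let u : M' := ∑ x ∈ t, r x • y x
      have hu : T (u : M) = u := by
        simp only [u, Submodule.coe_sum, Submodule.coe_smul, map_sum, map_smulₛₗ]
        refine Finset.sum_congr rfl fun x hx => ?_
        rw [hr x hx, show T (y x : M) = y x from congrArg Subtype.val (hy x hx)]
      have humem : (u : M) ∈ span (σ.eqLocus (RingHom.id R))
          ((s₁ ∪ t.image fun x => (y x : M) : Finset M) : Set M) := by
        simp only [u, Submodule.coe_sum, Submodule.coe_smul]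
        refine sum_mem fun x hx => ?_
        exact smul_mem _ (⟨r x, hr x hx⟩ : σ.eqLocus (RingHom.id R))
          (subset_span (Finset.mem_coe.2 (Finset.mem_union_right _ (Finset.mem_image_of_mem _ hx))))
      have hdiff : m - (u : M) ∈ P := by
        have h1 : (⟨m, hm⟩ : M') - u = (p : R) • (m'' - ∑ x ∈ t, r x • d x) := by
          rw [smul_sub, ← hm'', Finset.smul_sum]
          simp only [u, smul_comm (p : R)]
          have : ∀ x ∈ t, r x • ((p : R) • d x) = r x • y x - r x • x := fun x hx => by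
            rw [← hd x hx, smul_sub]
          rw [Finset.sum_congr rfl this, Finset.sum_sub_distrib]
          abel
        refine ⟨_, (m'' - ∑ x ∈ t, r x • d x : M').2, ?_⟩
        exact (congrArg Subtype.val h1).symm
      have h2 := hs₁' _ hdiff (by rw [map_sub, hmfix, hu])
      have := add_mem (span_mono (Finset.coe_subset.2 Finset.subset_union_left) h2) humem
      rwa [sub_add_cancel] at this

end GrothLib.SigmaLin
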